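set_option autoImplicit false
namespace Cfsg.Agent.Lib.Helper6.TCD.M11C
noncomputable def SC (i : Nat) : Nat := Nat.land (Nat.shiftRight 0x75008001d00200000004000cc02000000100000004000000100000000 (Nat.mul 30 (Nat.land i 1023))) 1073741823
end Cfsg.Agent.Lib.Helper6.TCD.M11C
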