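set_option autoImplicit false
namespace Cfsg.Agent.Lib.Helper6.TCD.M11C
noncomputable def WI (i : Nat) : Nat := Nat.land (Nat.shiftRight 0x4300018010b0005c042a0014010a00054302616130a098484c20260e1306098284c1026061302098084c002418120b09050482424101207090304814240812030901048042400130908840441c220c110508820440c22041101088004024201010070803040142008100308010400420001100070003c1c160c0b05058202c0c16040b0105800281c140c0a0505020280c14040a01050002c4812220910048782438121a090c04858242812120908048382418120a0904048182408120209000409020441020080f0407020341018080b040502024101008070403020141008080304010200410000902038081c000c040601030001c040a0004010200014000400020000 (Nat.mul 17 (Nat.land i 255))) 131071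
end Cfsg.Agent.Lib.Helper6.TCD.M11C
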